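import Cfsg.Agent.F4.Eng
import Cfsg.Agent.FM.T24

/-! Certificates (generated). -/

set_option autoImplicit false
set_option maxRecDepth 100000
set_option Elab.async false

namespace Cfsg.Agent.F4.B0

open Cfsg.Agent.M24 (band bor lall nall)
open Cfsg.Agent.FM Cfsg.Agent.FM.F24 Cfsg.Agent.GT Subgroup

noncomputable def g24 : List ℕ := [nat_lit 0, nat_lit 2, nat_lit 10, nat_lit 37, nat_lit 105, nat_lit 13, nat_lit 46, nat_lit 693, nat_lit 694, nat_lit 3510, nat_lit 3511, nat_lit 31671, nat_lit 31672]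
noncomputable def l23 : List ℕ := [nat_lit 31671, nat_lit 0, nat_lit 2, nat_lit 10, nat_lit 37, nat_lit 105, nat_lit 13, nat_lit 46, nat_lit 693, nat_lit 694, nat_lit 3510, nat_lit 3511]
theorem z23 : lvlR cd [nat_lit 31671, nat_lit 0, nat_lit 2, nat_lit 10, nat_lit 37, nat_lit 105, nat_lit 13, nat_lit 46, nat_lit 693, nat_lit 694, nat_lit 3510, nat_lit 3511] [] [] [] (.and (.and (.and (.and .all (.adj (nat_lit 11))) (.adj (nat_lit 10))) (.adj (nat_lit 9))) (.adj (nat_lit 5))) (.comm (.pt (nat_lit 8)) .var false (.comm (.pt (nat_lit 4)) .var true (.comm (.pt (nat_lit 0)) .var false .tt))) (nat_lit 31672) (ofL (dg (nat_lit 15) (nat_lit 62) (nat_lit 0x3e8a7d13f94df293e51fc58f8adf093e117c01f7ffefa7df47bd9f7b1ef5fde7fbcef79bef33de47bc7f78def17de1fbc2f783ef03ddffbbdf76e0c6018b82f405e40bb816d82d905ae0b5416582c905840b0015e82ba056c01ac026802f005c00b400d801a00320038006800c001400180028002))) [] [(.w [nat_lit 12])] (.stk [nat_lit 1]) (nat_lit 2) = true := by decide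 +kernel
theorem z23e : extC cd [nat_lit 31672, nat_lit 31671, nat_lit 0, nat_lit 2, nat_lit 10, nat_lit 37, nat_lit 105, nat_lit 13, nat_lit 46, nat_lit 693, nat_lit 694, nat_lit 3510, nat_lit 3511] [] [] [] g24 = true := by decide +kernel
noncomputable def l21 : List ℕ := [nat_lit 31671, nat_lit 3510, nat_lit 693, nat_lit 0, nat_lit 2, nat_lit 10, nat_lit 37, nat_lit 105, nat_lit 13, nat_lit 46, nat_lit 107]
theorem z21a : lvlR cd [nat_lit 31671, nat_lit 3510, nat_lit 693, nat_lit 0, nat_lit 2, nat_lit 10, nat_lit 37, nat_lit 105, nat_lit 13, nat_lit 46, nat_lit 107] [] [] [] (.and (.and (.and (.and .all (.adj (nat_lit 10))) (.adj (nat_lit 9))) (.adj (nat_lit 7))) (.adj (nat_lit 6))) (.comm (.pt (nat_lit 5)) .var true (.comm (.pt (nat_lit 3)) .var false (.comm (.pt (nat_lit 4)) .var true .tt))) (nat_lit 694) (ofL (dg (nat_lit 16) (nat_lit 34) (nat_lit 0xd6dfc205c203b1a8b1a6a4c4a4c29a979a9592a67bf37bdf7bde7bd17bb719a617be172415a115a013ea13e9128f128e11790db602bd02ba02b902b702b5000200010000)))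 [] [(.w [nat_lit 8])] (.stk [nat_lit 1]) (nat_lit 2) = true := by decide +kernel
theorem z21b : lvlR cd [nat_lit 694, nat_lit 31671, nat_lit 3510, nat_lit 693, nat_lit 0, nat_lit 2, nat_lit 10, nat_lit 37, nat_lit 105, nat_lit 13, nat_lit 46, nat_lit 107] [] [] [] (.and (.and (.and (.and .all (.adj (nat_lit 11))) (.adj (nat_lit 10))) (.adj (nat_lit 6))) (.adj (nat_lit 7))) (.comm (.pt (nat_lit 2)) .var false (.comm (.pt (nat_lit 9)) .var true .tt)) (nat_lit 3511) (ofL (dg (nat_lit 16) (nat_lit 34) (nat_lit 0xa5209aed9aeb92f592f38cda8cd788477bf37bdf7bde7bd27bd17bc97bb724f520ba20b91d3b1d3a1a4e1a4917c90db6054f048702ba02b802b702b602b5018501760000))) [] [(.w [nat_lit 10])] (.stk [nat_lit 1]) (nat_lit 2) = true := by decide +kernel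
theorem z21c : lvlR cd [nat_lit 3511, nat_lit 694, nat_lit 31671, nat_lit 3510, nat_lit 693, nat_lit 0, nat_lit 2, nat_lit 10, nat_lit 37, nat_lit 105, nat_lit 13, nat_lit 46, nat_lit 107] [] [] [] (.and (.and (.and (.and .all (.adj (nat_lit 11))) (.adj (nat_lit 10))) (.adj (nat_lit 9))) (.adj (nat_lit 6))) (.comm (.pt (nat_lit 7)) .var true (.comm (.pt (nat_lit 5)) .var true (.eq .var (.pt (nat_lit 9)) false (.eq .var (.pt (nat_lit 4)) false (.eq .var (.pt (nat_lit 3)) false (.eq .var (.pt (nat_lit 2)) false (.comm (.pt (nat_lit 1)) .var true .tt))))))) (nat_lit 31672) (ofL (dg (nat_lit 16) (nat_lit 62) (nat_lit 0x84f184f082828281828080b680a280a17f9c7f9b7f4a7f497f487e847e837e827e4a7e3a7daf7d7b7d157d147ca37ca27ca17c537bbe7bbc7bbb7bb97bb719a617be172415a115a013e90f720f070ee60e960e950e550e540e230dbd0dba0db6062605c0058404eb02db02ca02b802b602b5018b018a0069002d0014))) [] [(.w [nat_lit 12])] (.stk [nat_lit 1]) (nat_lit 2) = true := by decide +kernel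
theorem z21e : extC cd [nat_lit 31672, nat_lit 3511, nat_lit 694, nat_lit 31671, nat_lit 3510, nat_lit 693, nat_lit 0, nat_lit 2, nat_lit 10, nat_lit 37, nat_lit 105, nat_lit 13, nat_lit 46, nat_lit 107] [] [] [] g24 = true := by decide +kernel
theorem c1 : lvlR cd [] [] [] [] (patE .all [] 0) .tt (nat_lit 31671) (nat_lit 0) [] [(.w [nat_lit 0]), (.w [nat_lit 1]), (.w [nat_lit 2]), (.w [nat_lit 3]), (.w [nat_lit 4]), (.w [nat_lit 5]), (.w [nat_lit 6]), (.w [nat_lit 7]), (.w [nat_lit 8]), (.w [nat_lit 9]), (.w [nat_lit 10]), (.w [nat_lit 11]), (.w [nat_lit 12]), (.w [nat_lit 13]), (.w [nat_lit 14]), (.w [nat_lit 15]), (.w [nat_lit 16]), (.w [nat_lit 17]), (.w [nat_lit 18]), (.w [nat_lit 19]), (.w [nat_lit 20]), (.w [nat_lit 21])] (.simd (dg (nat_lit 5) (nat_lit 24) (nat_lit 0x41d4941d4941d4941d4941d4941cd))) (nat_lit 306936) = true := by decide +kernel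
theorem c2 : lvlR cd [nat_lit 31671] [] [] [] (patE .all [false] 0) .tt (nat_lit 31672) (nat_lit 0) [] [(.w [nat_lit 0]), (.w [nat_lit 1]), (.w [nat_lit 2]), (.w [nat_lit 3]), (.w [nat_lit 4]), (.w [nat_lit 5]), (.w [nat_lit 6]), (.w [nat_lit 7]), (.w [nat_lit 8]), (.w [nat_lit 9]), (.w [nat_lit 10]), (.w [nat_lit 11]), (.w [nat_lit 12])] (.simd (dg (nat_lit 4) (nat_lit 42) (nat_lit 0x713501264351b492076513a47652b3071542963c87))) (nat_lit 275264) = true := by decide +kernel
noncomputable def tS : List (ℕ × List ℕ) := [(nat_lit 31194, [nat_lit 14, nat_lit 14, nat_lit 18, nat_lit 6, nat_lit 19, nat_lit 15, nat_lit 15])]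
theorem tSc : tC cd tS (fun _ => true) = true := by decide +kernel
theorem c3 : lvlR cd [nat_lit 31672, nat_lit 31671] [] [] [] (patE .all [false, true] 0) .tt (nat_lit 693) (nat_lit 0) [] ([(.w [nat_lit 0]), (.w [nat_lit 1]), (.w [nat_lit 2]), (.w [nat_lit 3]), (.w [nat_lit 4]), (.w [nat_lit 5]), (.w [nat_lit 6]), (.w [nat_lit 9]), (.w [nat_lit 10]), (.w [nat_lit 11])] ++ (tEx tS)) (.simd (dg (nat_lit 4) (nat_lit 52) (nat_lit 0x1602137259601437058216390254731620583175920416352107))) (nat_lit 28431) = true := by decide +kernel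
theorem c4 : lvlR cd [nat_lit 693, nat_lit 31672, nat_lit 31671] [] [] [] (patE .all [false, true, true] 0) .tt (nat_lit 694) (nat_lit 0) [] ([(.w [nat_lit 0]), (.w [nat_lit 1]), (.w [nat_lit 2]), (.w [nat_lit 3]), (.w [nat_lit 4]), (.w [nat_lit 5]), (.w [nat_lit 6]), (.w [nat_lit 10]), (.w [nat_lit 11])] ++ (tEx tS)) (.simd (dg (nat_lit 4) (nat_lit 30) (nat_lit 0x647325981436052731582041635210))) (nat_lit 2880) = true := by decide +kernel
noncomputable def s5 : List ℕ := [nat_lit 31671, nat_lit 31672, nat_lit 693, nat_lit 694]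
noncomputable def s9 : List ℕ := [nat_lit 46, nat_lit 13, nat_lit 2, nat_lit 10, nat_lit 37, nat_lit 105, nat_lit 3511, nat_lit 3510]
theorem s9c : chnC cd s9 = true := by decide +kernel
theorem s5c : chnC cd s5 = true := by decide +kernel
theorem s59c : lall s9 (fun q => lall s5 (cd.comm q)) = true := by decide +kernel
noncomputable def l59 : List ℕ := [nat_lit 31671, nat_lit 31672, nat_lit 693, nat_lit 694, nat_lit 46, nat_lit 13, nat_lit 2, nat_lit 10, nat_lit 37, nat_lit 105, nat_lit 3511, nat_lit 3510]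
theorem t59 : lvlR cd [nat_lit 31671, nat_lit 31672, nat_lit 693, nat_lit 694, nat_lit 46, nat_lit 13, nat_lit 2, nat_lit 10, nat_lit 37, nat_lit 105, nat_lit 3511, nat_lit 3510] [] [] [] (.and (.and (.and (.and .all (.adj (nat_lit 11))) (.adj (nat_lit 10))) (.adj (nat_lit 8))) (.adj (nat_lit 9))) (.comm (.pt (nat_lit 6)) .var false (.comm (.pt (nat_lit 3)) .var false (.comm (.pt (nat_lit 7)) .var true (.comm (.pt (nat_lit 2)) .var true .tt)))) (nat_lit 0) (ofL (dg (nat_lit 15) (nat_lit 35) (nat_lit 0x1ef3fde47bc7f787ef0bde07bbff77deef7dde7bbbf775eee7ddc7bb705960b0816082bd05780ae815c82b8056e0ad815a802e003400380068009000c00100010001))) [] [] (.stk []) (nat_lit 1) = true := by decide +kernel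
theorem t59e : extC cd [nat_lit 0, nat_lit 31671, nat_lit 31672, nat_lit 693, nat_lit 694, nat_lit 46, nat_lit 13, nat_lit 2, nat_lit 10, nat_lit 37, nat_lit 105, nat_lit 3511, nat_lit 3510] [] [] [] g24 = true := by decide +kernel
noncomputable def lO : List ℕ := [nat_lit 31671, nat_lit 31672, nat_lit 0, nat_lit 2, nat_lit 10, nat_lit 37, nat_lit 105, nat_lit 13, nat_lit 46, nat_lit 694, nat_lit 3510, nat_lit 3511]
theorem tO : lvlR cd [nat_lit 31671, nat_lit 31672, nat_lit 0, nat_lit 2, nat_lit 10, nat_lit 37, nat_lit 105, nat_lit 13, nat_lit 46, nat_lit 694, nat_lit 3510, nat_lit 3511] [] [] [] (.and (.and (.and (.and .all (.adj (nat_lit 11))) (.adj (nat_lit 10))) (.adj (nat_lit 8))) (.adj (nat_lit 6))) (.comm (.pt (nat_lit 5)) .var true (.comm (.pt (nat_lit 9)) .var false (.comm (.pt (nat_lit 1)) .var false (.comm (.pt (nat_lit 2)) .var true (.comm (.pt (nat_lit 0)) .var true .tt))))) (nat_lit 693) (ofL (dg (nat_lit 15) (nat_lit 63) (nat_lit 0x1f457e8a7d13f94df297e527ca3f945f287e2bfc56f8abf153e29fc21f841f07fe00fbfcf7d1ef1bde1fbc1f781eeffddf7bbdf779eeefddd7bb9f771eedc18c031705e80bc417802db05b00b2816002bd05760ae815c82b8056e0ad801e803c005e00b80168023003600500050005000600080008000)))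 [] [] (.stk []) (nat_lit 1) = true := by decide +kernel
theorem tOe : extC cd [nat_lit 693, nat_lit 31671, nat_lit 31672, nat_lit 0, nat_lit 2, nat_lit 10, nat_lit 37, nat_lit 105, nat_lit 13, nat_lit 46, nat_lit 694, nat_lit 3510, nat_lit 3511] [] [] [] g24 = true := by decide +kernel
theorem lets : nall (nat_lit 14) (fun j => cd.eqE (.w [j]) (.ps [nth [nat_lit 0, nat_lit 2, nat_lit 10, nat_lit 37, nat_lit 105, nat_lit 13, nat_lit 46, nat_lit 107, nat_lit 693, nat_lit 694, nat_lit 3510, nat_lit 3511, nat_lit 31671, nat_lit 31672] (nat_lit 0) j])) = true := by decide +kernel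

end Cfsg.Agent.F4.B0
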